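import Cfsg.Agent.H241.Deg.MonFinal
import Cfsg.Agent.H58.Cop.MSc
import Cfsg.Agent.H436.MonLoc
import Cfsg.Agent.S0000

/-!
# (M,23) of S4929: centralizers in the Monster, without hypotheses (helper164, for helper792)

`c29`, `c41`, `c47`, `c59`, `c71` : the orders of the centralizers of the elements of order 29, 41, 47, 59, 71 of `MG`;
`inf47` : `|C(x) ∩ C(t)| = 94` for `x` of order 47 and `t` of order 2 commuting with `x`.
-/

set_option autoImplicit false

namespace Cfsg.Agent.H164.M23

open Subgroup Cfsg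
open Cfsg.Agent.BpSpor.MBigModel (MG)

theorem base : Cfsg.Agent.H940.Eng.Base := ⟨Cfsg.Agent.OrdDiv.table.{0}, fun _ _ _ _ => Cfsg.Agent.S0000.result⟩

theorem allKnown : Cfsg.Agent.H995.CopEngine.AllKnown.{0} := Cfsg.Agent.H438.Fpr.Mon.allKnown base

theorem c29 {x : MG} (hx : orderOf x = 29) : Nat.card (centralizer ({x} : Set MG)) = 29 * 3 :=
  Cfsg.Agent.H626.LD.TwentyNine.card_cent hx

theorem c41 {x : MG} (hx : orderOf x = 41) : Nat.card (centralizer ({x} : Set MG)) = 41 :=
  Cfsg.Agent.H241.Deg.Mon.card41 base hx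

theorem c47 {x : MG} (hx : orderOf x = 47) : Nat.card (centralizer ({x} : Set MG)) = 47 * 2 :=
  Cfsg.Agent.H436.MonLoc.card47 allKnown hx

theorem c59 {x : MG} (hx : orderOf x = 59) : Nat.card (centralizer ({x} : Set MG)) = 59 :=
  (Cfsg.Agent.H58.Cop.M.norm_fiftynine allKnown hx).1

theorem c71 {x : MG} (hx : orderOf x = 71) : Nat.card (centralizer ({x} : Set MG)) = 71 :=
  (Cfsg.Agent.H241.Deg.Mon.norm71 base hx).1

/-- general: `|C(x)| = r s`, `x`, `t` commuting of coprime orders `r`, `s`: `C(x)` is generated by `x t` -/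
theorem cent_eq_zpowers {G : Type*} [Group G] [Finite G] {x t : G} {r s : ℕ} (hx : orderOf x = r) (ht : orderOf t = s)
    (hrs : Nat.Coprime r s) (hxt : x * t = t * x) (hc : Nat.card (centralizer ({x} : Set G)) = r * s) :
    centralizer ({x} : Set G) = zpowers (x * t) := by
  symm
  apply Subgroup.eq_of_le_of_card_ge
  · rw [zpowers_le, mem_centralizer_singleton_iff]
    rw [mul_assoc, ← hxt]
  · have h1 : Commute x t := hxt
    rw [hc, Nat.card_zpowers, h1.orderOf_mul_eq_mul_orderOf_of_coprime (by rw [hx, ht]; exact hrs), hx, ht]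

theorem inf_eq {G : Type*} [Group G] [Finite G] {x t : G} {r s : ℕ} (hx : orderOf x = r) (ht : orderOf t = s)
    (hrs : Nat.Coprime r s) (hxt : x * t = t * x) (hc : Nat.card (centralizer ({x} : Set G)) = r * s) :
    centralizer ({x} : Set G) ⊓ centralizer ({t} : Set G) = centralizer ({x} : Set G) := by
  rw [inf_eq_left, cent_eq_zpowers hx ht hrs hxt hc, zpowers_le, mem_centralizer_singleton_iff]
  rw [hxt, mul_assoc, hxt]

theorem inf47 {x t : MG} (hx : orderOf x = 47) (ht : orderOf t = 2) (hxt : x * t = t * x) :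
    Nat.card ↥(centralizer ({x} : Set MG) ⊓ centralizer ({t} : Set MG)) = 47 * 2 := by
  have := Cfsg.Agent.BpSpor.MBigModel.finite
  rw [inf_eq hx ht (by norm_num) hxt (c47 hx)]
  exact c47 hx

/-- the centralizer of an element of order 47 is abelian -/
theorem comm47 {x t : MG} (hx : orderOf x = 47) (ht : orderOf t = 2) (hxt : x * t = t * x) {y : MG}
    (hy : y ∈ centralizer ({x} : Set MG)) : y * t = t * y := by
  have := Cfsg.Agent.BpSpor.MBigModel.finite
  have h := inf_eq hx ht (by norm_num) hxt (c47 hx)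
  rw [← h] at hy
  exact mem_centralizer_singleton_iff.1 hy.2

end Cfsg.Agent.H164.M23
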